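import Mathlib

/-!
# Theta series of positive definite lattices: Poisson summation
-/

set_option autoImplicit false

open MeasureTheory Complex Matrix Set Filter
open scoped Real Topology

namespace Cfsg.Agent.Theta

variable {n : ℕ}

/-- sum of squares -/
def nsq (x : Fin n → ℝ) : ℝ := ∑ i, x i ^ 2

lemma nsq_nonneg (x : Fin n → ℝ) : 0 ≤ nsq x := Finset.sum_nonneg fun i _ => sq_nonneg _

lemma nsq_add_ge (x y : Fin n → ℝ) : nsq y / 2 - nsq x ≤ nsq (x + y) := by
  unfold nsq
  rw [Finset.sum_div, ← Finset.sum_sub_distrib]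
  refine Finset.sum_le_sum fun i _ => ?_
  simp only [Pi.add_apply]
  nlinarith [sq_nonneg (2 * x i + y i)]

/-- an integer vector as a real vector -/
def toR (m : Fin n → ℤ) : Fin n → ℝ := fun i => (m i : ℝ)

lemma toR_add (a b : Fin n → ℤ) : toR (a + b) = toR a + toR b := by
  funext i; simp [toR]

lemma summable_exp_neg_sq {a : ℝ} (ha : 0 < a) :
    Summable fun m : ℤ => Real.exp (-a * (m : ℝ) ^ 2) := by
  have hnat : Summable fun m : ℕ => Real.exp (-a * (m : ℝ) ^ 2) := by
    refine Summable.of_nonneg_of_le (fun m => (Real.exp_pos _).le) (fun m => ?_)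
      (Real.summable_exp_nat_mul_iff.mpr (neg_lt_zero.mpr ha))
    refine Real.exp_le_exp.mpr ?_
    have h : (m : ℝ) ≤ (m : ℝ) ^ 2 := by
      rcases Nat.eq_zero_or_pos m with h | h
      · simp [h]
      · have : (1 : ℝ) ≤ m := by exact_mod_cast h
        nlinarith
    nlinarith
  exact Summable.of_nat_of_neg (by simpa using hnat) (by simpa using hnat)

lemma summable_gauss {a : ℝ} (ha : 0 < a) :
    ∀ n : ℕ, Summable fun m : Fin n → ℤ => Real.exp (-a * nsq (toR m))
  | 0 => Summable.of_finite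
  | k + 1 => by
    have ih := summable_gauss ha k
    have h := (summable_exp_neg_sq ha).mul_of_nonneg ih (fun _ => (Real.exp_pos _).le)
      (fun _ => (Real.exp_pos _).le)
    refine ((Fin.consEquiv (fun _ : Fin (k + 1) => ℤ)).summable_iff).mp ?_
    refine h.congr fun p => ?_
    simp only [Function.comp_apply, Fin.consEquiv, Equiv.coe_fn_mk, ← Real.exp_add, nsq, toR,
      Fin.sum_univ_succ, Fin.cons_zero, Fin.cons_succ]
    ring_nf

/-- the real Gaussian bound -/
lemma exists_nsq_le (A : Matrix (Fin n) (Fin n) ℝ) (hA : A.det ≠ 0) :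
    ∃ c : ℝ, 0 < c ∧ ∀ x, c * nsq x ≤ nsq (A *ᵥ x) := by
  have hu : IsUnit A.det := isUnit_iff_ne_zero.mpr hA
  set K : ℝ := ∑ i, ∑ j, A⁻¹ i j ^ 2 with hK
  have hK0 : 0 ≤ K := Finset.sum_nonneg fun i _ => Finset.sum_nonneg fun j _ => sq_nonneg _
  refine ⟨1 / (K + 1), by positivity, fun x => ?_⟩
  have hx : A⁻¹ *ᵥ (A *ᵥ x) = x := by
    rw [Matrix.mulVec_mulVec, Matrix.nonsing_inv_mul A hu, Matrix.one_mulVec]
  have h : nsq x ≤ K * nsq (A *ᵥ x) := by
    calc nsq x = ∑ i, (∑ j, A⁻¹ i j * (A *ᵥ x) j) ^ 2 :=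
          Finset.sum_congr rfl fun i _ => by
            conv_lhs => rw [← hx]
            rfl
      _ ≤ ∑ i, (∑ j, A⁻¹ i j ^ 2) * ∑ j, (A *ᵥ x) j ^ 2 :=
          Finset.sum_le_sum fun i _ => Finset.sum_mul_sq_le_sq_mul_sq _ _ _
      _ = K * nsq (A *ᵥ x) := by rw [hK, Finset.sum_mul]; rfl
  rw [one_div_mul_eq_div, div_le_iff₀ (by positivity)]
  nlinarith [nsq_nonneg (A *ᵥ x)]

/-- the Gaussian attached to `A` -/
noncomputable def gauss (A : Matrix (Fin n) (Fin n) ℝ) (s : ℂ) (x : Fin n → ℝ) : ℂ :=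
  cexp (-(π : ℂ) * s * (nsq (A *ᵥ x) : ℂ))

lemma continuous_nsq : Continuous (nsq (n := n)) := by
  unfold nsq; fun_prop

lemma continuous_gauss (A : Matrix (Fin n) (Fin n) ℝ) (s : ℂ) : Continuous (gauss A s) := by
  unfold gauss nsq Matrix.mulVec dotProduct
  fun_prop

lemma norm_gauss (A : Matrix (Fin n) (Fin n) ℝ) (s : ℂ) (x : Fin n → ℝ) :
    ‖gauss A s x‖ = Real.exp (-π * s.re * nsq (A *ᵥ x)) := by
  rw [gauss, Complex.norm_exp]
  congr 1
  simp

lemma norm_gauss_add_le {A : Matrix (Fin n) (Fin n) ℝ} {s : ℂ} {c : ℝ} (hs : 0 < s.re)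
    (hc : 0 < c) (hcA : ∀ x, c * nsq x ≤ nsq (A *ᵥ x)) {R : ℝ} {x : Fin n → ℝ}
    (hx : nsq x ≤ R) (m : Fin n → ℤ) :
    ‖gauss A s (x + toR m)‖ ≤
      Real.exp (π * s.re * c * R) * Real.exp (-(π * s.re * c / 2) * nsq (toR m)) := by
  rw [norm_gauss, ← Real.exp_add, Real.exp_le_exp]
  have h1 : 0 < π * s.re := mul_pos Real.pi_pos hs
  have h2 := hcA (x + toR m)
  have h3 := nsq_add_ge x (toR m)
  have h5 : c * (nsq (toR m) / 2 - R) ≤ nsq (A *ᵥ (x + toR m)) :=
    le_trans (mul_le_mul_of_nonneg_left (by linarith) hc.le) h2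
  nlinarith [mul_le_mul_of_nonneg_left h5 h1.le]

/-- the periodised Gaussian -/
noncomputable def per (A : Matrix (Fin n) (Fin n) ℝ) (s : ℂ) (x : Fin n → ℝ) : ℂ :=
  ∑' m : Fin n → ℤ, gauss A s (x + toR m)

lemma summable_gauss_add {A : Matrix (Fin n) (Fin n) ℝ} {s : ℂ} (hA : A.det ≠ 0) (hs : 0 < s.re)
    (x : Fin n → ℝ) : Summable fun m : Fin n → ℤ => gauss A s (x + toR m) := by
  obtain ⟨c, hc, hcA⟩ := exists_nsq_le A hA
  refine Summable.of_norm_bounded ?_ (fun m => norm_gauss_add_le hs hc hcA (le_refl (nsq x)) m)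
  exact (summable_gauss (by positivity) n).mul_left _

lemma continuous_per {A : Matrix (Fin n) (Fin n) ℝ} {s : ℂ} (hA : A.det ≠ 0) (hs : 0 < s.re) :
    Continuous (per A s) := by
  obtain ⟨c, hc, hcA⟩ := exists_nsq_le A hA
  refine continuous_iff_continuousAt.mpr fun x => ?_
  have ho : IsOpen {y : Fin n → ℝ | nsq y < nsq x + 1} :=
    isOpen_lt continuous_nsq continuous_const
  refine ContinuousOn.continuousAt ?_ (ho.mem_nhds (by simp))
  refine continuousOn_tsum (fun m => ((continuous_gauss A s).comp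
    (continuous_id.add continuous_const)).continuousOn)
    ((summable_gauss (a := π * s.re * c / 2) (by positivity) n).mul_left
      (Real.exp (π * s.re * c * (nsq x + 1))))
    (fun m y hy => norm_gauss_add_le hs hc hcA (le_of_lt hy) m)

lemma per_add_toR (A : Matrix (Fin n) (Fin n) ℝ) (s : ℂ) (x : Fin n → ℝ) (z : Fin n → ℤ) :
    per A s (x + toR z) = per A s x := by
  unfold per
  rw [← (Equiv.addLeft z).tsum_eq (fun m => gauss A s (x + toR m))]
  refine tsum_congr fun m => ?_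
  simp [toR_add, add_assoc]

/-- projection to the torus -/
def proj (x : Fin n → ℝ) : UnitAddTorus (Fin n) := fun i => (x i : UnitAddCircle)

lemma isOpenQuotientMap_proj : IsOpenQuotientMap (proj (n := n)) := by
  have h := IsOpenQuotientMap.piMap (f := fun _ : Fin n => fun r : ℝ => (r : UnitAddCircle))
    (fun _ => QuotientAddGroup.isOpenQuotientMap_mk)
  exact h

/-- representatives in the unit cube -/
noncomputable def rep (t : UnitAddTorus (Fin n)) : Fin n → ℝ :=
  fun i => (AddCircle.equivIoc (1 : ℝ) 0 (t i)).1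

lemma exists_rep_proj (x : Fin n → ℝ) : ∃ z : Fin n → ℤ, rep (proj x) = x + toR z := by
  have h : ∀ i, ∃ z : ℤ, rep (proj x) i = x i + z := by
    intro i
    have h2 : ((rep (proj x) i : ℝ) : UnitAddCircle) = (x i : UnitAddCircle) :=
      (AddCircle.equivIoc (1 : ℝ) 0).symm_apply_apply _
    rw [QuotientAddGroup.eq_iff_sub_mem, AddSubgroup.mem_zmultiples_iff] at h2
    obtain ⟨k, hk⟩ := h2
    refine ⟨k, ?_⟩
    rw [zsmul_one] at hk
    linarith
  choose z hz using h
  exact ⟨z, funext fun i => hz i⟩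

/-- the periodised Gaussian on the torus -/
noncomputable def perT {A : Matrix (Fin n) (Fin n) ℝ} {s : ℂ} (hA : A.det ≠ 0) (hs : 0 < s.re) :
    C(UnitAddTorus (Fin n), ℂ) where
  toFun t := per A s (rep t)
  continuous_toFun := by
    refine isOpenQuotientMap_proj.continuous_comp_iff.mp ?_
    have : (fun t => per A s (rep t)) ∘ proj = per A s := by
      funext x
      obtain ⟨z, hz⟩ := exists_rep_proj x
      simp [Function.comp_apply, hz, per_add_toR]
    rw [this]
    exact continuous_per hA hs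

lemma perT_proj {A : Matrix (Fin n) (Fin n) ℝ} {s : ℂ} (hA : A.det ≠ 0) (hs : 0 < s.re)
    (x : Fin n → ℝ) : perT hA hs (proj x) = per A s x := by
  obtain ⟨z, hz⟩ := exists_rep_proj x
  show per A s (rep (proj x)) = _
  rw [hz, per_add_toR]

/-- the integer box at `m` -/
def box (m : Fin n → ℤ) : Set (Fin n → ℝ) :=
  {x | ∀ i, x i ∈ Ioc (m i : ℝ) (m i + 1)}

lemma measurableSet_box (m : Fin n → ℤ) : MeasurableSet (box m) := by
  have : box m = Set.univ.pi fun i => Ioc (m i : ℝ) (m i + 1) := by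
    ext x; simp [box]
  rw [this]
  exact MeasurableSet.univ_pi fun i => measurableSet_Ioc

lemma pairwise_disjoint_box : Pairwise (Function.onFun Disjoint (box (n := n))) := by
  intro a b hab
  rw [Function.onFun, Set.disjoint_left]
  intro x hx hy
  apply hab
  funext i
  obtain ⟨h1, h2⟩ := hx i
  obtain ⟨h3, h4⟩ := hy i
  have e1 : a i < b i + 1 := by exact_mod_cast lt_of_lt_of_le h1 h4
  have e2 : b i < a i + 1 := by exact_mod_cast lt_of_lt_of_le h3 h2
  omega

lemma iUnion_box : (⋃ m : Fin n → ℤ, box m) = Set.univ := by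
  refine Set.eq_univ_of_forall fun x => Set.mem_iUnion.mpr ⟨fun i => ⌈x i⌉ - 1, fun i => ?_⟩
  push_cast
  constructor
  · linarith [Int.ceil_lt_add_one (x i)]
  · linarith [Int.le_ceil (x i)]

lemma integrable_real_gauss {a : ℝ} (ha : 0 < a) :
    Integrable (fun x : Fin n → ℝ => Real.exp (-a * nsq x)) := by
  have h : (fun x : Fin n → ℝ => Real.exp (-a * nsq x)) =
      fun x => ∏ i, Real.exp (-a * x i ^ 2) := by
    funext x; rw [← Real.exp_sum, nsq, Finset.mul_sum]
  rw [h]
  exact Integrable.fintype_prod (f := fun _ (v : ℝ) => Real.exp (-a * v ^ 2))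
    fun _ => integrable_exp_neg_mul_sq ha

/-- the character -/
noncomputable def ch (k : Fin n → ℤ) (x : Fin n → ℝ) : ℂ :=
  cexp (-(2 * π * I) * ((∑ i, (k i : ℝ) * x i : ℝ) : ℂ))

lemma continuous_ch (k : Fin n → ℤ) : Continuous (ch k) := by
  unfold ch; fun_prop

lemma norm_ch (k : Fin n → ℤ) (x : Fin n → ℝ) : ‖ch k x‖ = 1 := by
  rw [ch, Complex.norm_exp]
  simp

lemma mFourier_neg_proj (k : Fin n → ℤ) (x : Fin n → ℝ) :
    UnitAddTorus.mFourier (-k) (proj x) = ch k x := by
  show (∏ i, fourier ((-k) i) ((x i : UnitAddCircle))) = _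
  simp only [fourier_coe_apply, ← Complex.exp_sum, ch]
  congr 1
  rw [Complex.ofReal_sum, Finset.mul_sum]
  refine Finset.sum_congr rfl fun i _ => ?_
  push_cast [Pi.neg_apply]
  ring

lemma ch_add_toR (k : Fin n → ℤ) (x : Fin n → ℝ) (m : Fin n → ℤ) :
    ch k (x + toR m) = ch k x := by
  unfold ch
  have : (∑ i, (k i : ℝ) * (x + toR m) i) =
      (∑ i, (k i : ℝ) * x i) + ((∑ i, k i * m i : ℤ) : ℝ) := by
    push_cast
    rw [← Finset.sum_add_distrib]
    exact Finset.sum_congr rfl fun i _ => by simp [toR, mul_add]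
  rw [this, Complex.ofReal_add, mul_add, Complex.exp_add]
  have h1 : cexp (-(2 * π * I) * (((∑ i, k i * m i : ℤ) : ℝ) : ℂ)) = 1 := by
    refine Complex.exp_eq_one_iff.mpr ⟨-(∑ i, k i * m i), ?_⟩
    push_cast; ring
  rw [h1, mul_one]

lemma volume_box (m : Fin n → ℤ) : volume (box m) = 1 := by
  have : box m = Set.univ.pi fun i => Ioc (m i : ℝ) (m i + 1) := by
    ext x; simp [box]
  rw [this, Real.volume_pi_Ioc]
  simp

lemma nsq_le_of_mem_box {x : Fin n → ℝ} (hx : x ∈ box (0 : Fin n → ℤ)) : nsq x ≤ n := by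
  calc nsq x ≤ ∑ _i : Fin n, (1 : ℝ) := Finset.sum_le_sum fun i _ => by
        have h := hx i
        simp only [Pi.zero_apply, Int.cast_zero, zero_add] at h
        nlinarith [h.1, h.2]
    _ = n := by simp

lemma setIntegral_box_add (h : (Fin n → ℝ) → ℂ) (m : Fin n → ℤ) :
    ∫ x in box 0, h (x + toR m) = ∫ x in box m, h x := by
  have hpre : (fun x => x + toR m) ⁻¹' box m = box 0 := by
    ext x
    simp only [box, Set.mem_preimage, Set.mem_ofPred_eq, Pi.add_apply, toR, Set.mem_Ioc,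
      Pi.zero_apply, Int.cast_zero]
    refine forall_congr' fun i => ?_
    constructor <;> rintro ⟨h1, h2⟩ <;> constructor <;> linarith
  rw [← hpre]
  exact (measurePreserving_add_right volume (toR m)).setIntegral_preimage_emb
    (MeasurableEquiv.addRight (toR m)).measurableEmbedding h (box m)

/-- the Fourier coefficient of the periodisation is the Fourier integral -/
lemma coeff_eq_integral {A : Matrix (Fin n) (Fin n) ℝ} {s : ℂ} (hA : A.det ≠ 0) (hs : 0 < s.re)
    (k : Fin n → ℤ) :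
    UnitAddTorus.mFourierCoeff (perT hA hs) k = ∫ x, ch k x * gauss A s x := by
  obtain ⟨c, hc, hcA⟩ := exists_nsq_le A hA
  rw [UnitAddTorus.mFourierCoeff_eq_integral _ _ (fun _ => (0 : ℝ))]
  have hbox : {x : Fin n → ℝ | ∀ i, x i ∈ Ioc ((0 : ℝ)) (0 + 1)} = box (0 : Fin n → ℤ) := by
    simp [box]
  rw [hbox]
  have hfin : volume (box (0 : Fin n → ℤ)) < ⊤ := by simp [volume_box]
  have hstep : ∀ x : Fin n → ℝ,
      UnitAddTorus.mFourier (-k) (fun i => (x i : UnitAddCircle)) •
        perT hA hs (fun i => (x i : UnitAddCircle)) =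
      ∑' m : Fin n → ℤ, ch k (x + toR m) * gauss A s (x + toR m) := by
    intro x
    show UnitAddTorus.mFourier (-k) (proj x) • perT hA hs (proj x) = _
    rw [mFourier_neg_proj, perT_proj, smul_eq_mul, per, ← tsum_mul_left]
    exact tsum_congr fun m => by rw [ch_add_toR]
  rw [setIntegral_congr_fun (measurableSet_box 0) (fun x _ => hstep x)]
  haveI : IsFiniteMeasure (volume.restrict (box (0 : Fin n → ℤ))) :=
    isFiniteMeasure_restrict.mpr hfin.ne
  have hbd : ∀ m : Fin n → ℤ, ∀ᵐ x ∂volume.restrict (box (0 : Fin n → ℤ)),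
      ‖ch k (x + toR m) * gauss A s (x + toR m)‖ ≤
        Real.exp (π * s.re * c * n) * Real.exp (-(π * s.re * c / 2) * nsq (toR m)) := by
    intro m
    filter_upwards [ae_restrict_mem (measurableSet_box 0)] with x hx
    rw [norm_mul, norm_ch, one_mul]
    exact norm_gauss_add_le hs hc hcA (nsq_le_of_mem_box hx) m
  have hint : ∀ m : Fin n → ℤ, Integrable (fun x => ch k (x + toR m) * gauss A s (x + toR m))
      (volume.restrict (box (0 : Fin n → ℤ))) := fun m =>
    Integrable.of_bound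
      (((continuous_ch k).mul (continuous_gauss A s)).comp
        (continuous_id.add continuous_const)).aestronglyMeasurable _ (hbd m)
  rw [← integral_tsum_of_summable_integral_norm hint]
  · have hall : Integrable (fun x => ch k x * gauss A s x) := by
      refine Integrable.mono' (integrable_real_gauss (n := n) (a := π * s.re * c) (by positivity))
        ((continuous_ch k).mul (continuous_gauss A s)).aestronglyMeasurable
        (Eventually.of_forall fun x => ?_)
      rw [norm_mul, norm_ch, one_mul, norm_gauss, Real.exp_le_exp]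
      nlinarith [hcA x, mul_pos Real.pi_pos hs]
    rw [tsum_congr fun m => setIntegral_box_add (fun x => ch k x * gauss A s x) m]
    rw [← integral_iUnion measurableSet_box pairwise_disjoint_box (hall.integrableOn),
      iUnion_box, setIntegral_univ]
  · refine Summable.of_nonneg_of_le (fun m => integral_nonneg fun x => norm_nonneg _) (fun m => ?_)
      ((summable_gauss (a := π * s.re * c / 2) (by positivity) n).mul_left
        (Real.exp (π * s.re * c * n)))
    refine (integral_mono_ae (hint m).norm (integrable_const _) (hbd m)).trans ?_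
    simp [Measure.real, volume_box]

lemma integral_comp_mulVec {A : Matrix (Fin n) (Fin n) ℝ} (hA : A.det ≠ 0)
    (H : (Fin n → ℝ) → ℂ) (hH : Continuous H) :
    ∫ x, H (A *ᵥ x) = ((|A.det⁻¹| : ℝ) : ℂ) * ∫ y, H y := by
  have h := Real.map_matrix_volume_pi_eq_smul_volume_pi hA
  have hm : Measurable (Matrix.toLin' A) :=
    (LinearMap.continuous_of_finiteDimensional _).measurable
  have h2 := integral_map (μ := volume) hm.aemeasurable (f := H) hH.aestronglyMeasurable
  rw [h, integral_smul_measure, ENNReal.toReal_ofReal (abs_nonneg _)] at h2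
  rw [← Complex.real_smul]
  exact h2.symm

lemma integral_ch_gauss {A : Matrix (Fin n) (Fin n) ℝ} {s : ℂ} (hA : A.det ≠ 0) (hs : 0 < s.re)
    (k : Fin n → ℤ) :
    ∫ x, ch k x * gauss A s x =
      ((|A.det⁻¹| : ℝ) : ℂ) * ((1 / s) ^ ((n : ℂ) / 2) *
        cexp (-(π : ℂ) * (nsq (A⁻¹ᵀ *ᵥ toR k) : ℂ) / s)) := by
  set w : Fin n → ℝ := A⁻¹ᵀ *ᵥ toR k with hw
  have hu : IsUnit A.det := isUnit_iff_ne_zero.mpr hA
  have hkx : ∀ x : Fin n → ℝ, ∑ i, (k i : ℝ) * x i = ∑ i, w i * (A *ᵥ x) i := by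
    intro x
    show toR k ⬝ᵥ x = w ⬝ᵥ (A *ᵥ x)
    rw [hw, Matrix.mulVec_transpose, ← Matrix.dotProduct_mulVec, Matrix.mulVec_mulVec,
      Matrix.nonsing_inv_mul A hu, Matrix.one_mulVec]
  have hrw : ∀ x : Fin n → ℝ, ch k x * gauss A s x =
      cexp (-((π : ℂ) * s) * ∑ i, (((A *ᵥ x) i : ℝ) : ℂ) ^ 2 +
        ∑ i, (-(2 * π * I) * (w i : ℂ)) * (((A *ᵥ x) i : ℝ) : ℂ)) := by
    intro x
    rw [ch, gauss, ← Complex.exp_add, hkx]
    congr 1
    simp only [nsq, Complex.ofReal_sum, Complex.ofReal_mul, Complex.ofReal_pow, Finset.mul_sum]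
    rw [add_comm]
    congr 1
    · exact Finset.sum_congr rfl fun i _ => by ring
    · exact Finset.sum_congr rfl fun i _ => by ring
  rw [integral_congr_ae (Eventually.of_forall hrw)]
  rw [integral_comp_mulVec hA (fun y : Fin n → ℝ => cexp (-((π : ℂ) * s) * ∑ i, (y i : ℂ) ^ 2 +
        ∑ i, (-(2 * π * I) * (w i : ℂ)) * (y i : ℂ))) (by fun_prop)]
  congr 1
  have hb : 0 < ((π : ℂ) * s).re := by simp [mul_pos Real.pi_pos hs]
  rw [GaussianFourier.integral_cexp_neg_mul_sum_add hb, Fintype.card_fin]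
  have hpi : (π : ℂ) ≠ 0 := Complex.ofReal_ne_zero.mpr Real.pi_ne_zero
  have hs0 : s ≠ 0 := fun h => by simp [h] at hs
  congr 2
  · field_simp
  · have : ∑ i, (-(2 * π * I) * (w i : ℂ)) ^ 2 = -(4 * (π : ℂ) ^ 2) * (nsq w : ℂ) := by
      simp only [nsq, Complex.ofReal_sum, Complex.ofReal_pow, Finset.mul_sum]
      refine Finset.sum_congr rfl fun i _ => ?_
      ring_nf
      rw [Complex.I_sq]; ring
    rw [this]
    field_simp

/-- Poisson summation for the Gaussian of a lattice. -/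
theorem poisson {A : Matrix (Fin n) (Fin n) ℝ} {s : ℂ} (hA : A.det ≠ 0) (hs : 0 < s.re) :
    ∑' m : Fin n → ℤ, gauss A s (toR m) =
      ∑' k : Fin n → ℤ, ((|A.det⁻¹| : ℝ) : ℂ) * ((1 / s) ^ ((n : ℂ) / 2) *
        cexp (-(π : ℂ) * (nsq (A⁻¹ᵀ *ᵥ toR k) : ℂ) / s)) := by
  have hs0 : s ≠ 0 := fun h => by simp [h] at hs
  have hinv : 0 < (1 / s).re := by
    rw [one_div, Complex.inv_re]
    exact div_pos hs (Complex.normSq_pos.mpr hs0)
  have hAT : (A⁻¹ᵀ).det ≠ 0 := by
    rw [Matrix.det_transpose, Matrix.det_nonsing_inv, Ring.inverse_eq_inv']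
    exact inv_ne_zero hA
  have hcoef : ∀ k, UnitAddTorus.mFourierCoeff (perT hA hs) k =
      ((|A.det⁻¹| : ℝ) : ℂ) * ((1 / s) ^ ((n : ℂ) / 2) *
        cexp (-(π : ℂ) * (nsq (A⁻¹ᵀ *ᵥ toR k) : ℂ) / s)) := fun k =>
    (coeff_eq_integral hA hs k).trans (integral_ch_gauss hA hs k)
  have hsum : Summable (UnitAddTorus.mFourierCoeff (perT hA hs)) := by
    refine Summable.congr (((summable_gauss_add hAT hinv 0).mul_left
      ((1 / s) ^ ((n : ℂ) / 2))).mul_left ((|A.det⁻¹| : ℝ) : ℂ)) fun k => ?_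
    rw [hcoef]
    simp only [gauss, zero_add]
    ring_nf
  have h0 := UnitAddTorus.hasSum_mFourier_series_apply_of_summable hsum (proj 0)
  rw [perT_proj] at h0
  have hl : per A s 0 = ∑' m : Fin n → ℤ, gauss A s (toR m) := by simp [per]
  rw [← hl, ← h0.tsum_eq]
  refine tsum_congr fun k => ?_
  rw [hcoef, smul_eq_mul]
  have : UnitAddTorus.mFourier k (proj (0 : Fin n → ℝ)) = 1 := by
    show (∏ i, fourier (k i) ((((0 : Fin n → ℝ) i) : ℝ) : UnitAddCircle)) = 1
    simp
  rw [this, mul_one]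

end Cfsg.Agent.Theta
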