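import Cfsg.Agent.Lib.Lattice.Theta

/-!
# The theta series of an even unimodular lattice of rank 24
-/

set_option autoImplicit false

open MeasureTheory Complex Matrix Set Filter UpperHalfPlane ModularForm ModularFormClass
open scoped Real Topology MatrixGroups Manifold

namespace Cfsg.Agent.Theta

/-- data of an even unimodular positive definite lattice of rank 24 -/
structure Even24 where
  B : Matrix (Fin 24) (Fin 24) ℤ
  symm : B.IsSymm
  pos : ∀ x : Fin 24 → ℤ, x ≠ 0 → 0 < x ⬝ᵥ (B *ᵥ x)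
  even : ∀ x : Fin 24 → ℤ, (2 : ℤ) ∣ x ⬝ᵥ (B *ᵥ x)
  det_eq : B.det = 1

namespace Even24

variable (L : Even24)

/-- the norm -/
def qz (x : Fin 24 → ℤ) : ℤ := x ⬝ᵥ (L.B *ᵥ x)

lemma qz_nonneg (x : Fin 24 → ℤ) : 0 ≤ L.qz x := by
  by_cases h : x = 0
  · simp [qz, h]
  · exact (L.pos x h).le

/-- the real Gram matrix -/
def BR : Matrix (Fin 24) (Fin 24) ℝ := L.B.map (fun z => (z : ℝ))

lemma toR_dot (x y : Fin 24 → ℤ) :
    toR x ⬝ᵥ (L.BR *ᵥ toR y) = ((x ⬝ᵥ (L.B *ᵥ y) : ℤ) : ℝ) := by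
  simp [dotProduct, Matrix.mulVec, BR, toR, Matrix.map_apply]

lemma BR_det : L.BR.det = 1 := by
  have : L.BR = (Int.castRingHom ℝ).mapMatrix L.B := rfl
  rw [this, ← RingHom.map_det, L.det_eq, map_one]

lemma BR_posDef : L.BR.PosDef := by
  have hH : L.BR.IsHermitian := by
    ext i j
    simp [BR, Matrix.map_apply, L.symm.apply i j]
  have hsd : L.BR.PosSemidef := by
    refine Matrix.PosSemidef.of_dotProduct_mulVec_nonneg hH fun x => ?_
    simp only [star_trivial]
    set xs : ℕ → Fin 24 → ℝ := fun k i => (⌊((k : ℝ) + 1) * x i⌋ : ℝ) / ((k : ℝ) + 1) with hxs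
    have hlim : Tendsto xs atTop (𝓝 x) := by
      rw [tendsto_pi_nhds]
      intro i
      have h0 : Tendsto (fun k : ℕ => x i - 1 / ((k : ℝ) + 1)) atTop (𝓝 (x i)) := by
        simpa using tendsto_const_nhds.sub
          (tendsto_one_div_add_atTop_nhds_zero_nat (𝕜 := ℝ))
      refine tendsto_of_tendsto_of_tendsto_of_le_of_le h0 tendsto_const_nhds (fun k => ?_)
        (fun k => ?_)
      · have hk : (0 : ℝ) < (k : ℝ) + 1 := by positivity
        simp only [hxs]
        rw [le_div_iff₀ hk, sub_mul, div_mul_cancel₀ _ hk.ne']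
        linarith [Int.sub_one_lt_floor (((k : ℝ) + 1) * x i)]
      · have hk : (0 : ℝ) < (k : ℝ) + 1 := by positivity
        simp only [hxs]
        rw [div_le_iff₀ hk]
        linarith [Int.floor_le (((k : ℝ) + 1) * x i)]
    have hc : Continuous fun y : Fin 24 → ℝ => y ⬝ᵥ (L.BR *ᵥ y) := by
      unfold dotProduct Matrix.mulVec dotProduct
      fun_prop
    refine ge_of_tendsto' ((hc.tendsto x).comp hlim) fun k => ?_
    simp only [Function.comp_apply]
    have : xs k = (1 / ((k : ℝ) + 1)) • toR (fun i => ⌊((k : ℝ) + 1) * x i⌋) := by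
      funext i; simp [hxs, toR, div_eq_inv_mul]
    rw [this, Matrix.mulVec_smul, smul_dotProduct, dotProduct_smul, toR_dot, smul_eq_mul,
      smul_eq_mul]
    have := L.qz_nonneg (fun i => ⌊((k : ℝ) + 1) * x i⌋)
    have : (0 : ℝ) ≤ ((L.qz (fun i => ⌊((k : ℝ) + 1) * x i⌋) : ℤ) : ℝ) := by exact_mod_cast this
    unfold qz at this
    positivity
  exact hsd.posDef_iff_det_ne_zero.mpr (by simp [BR_det])

open scoped MatrixOrder in
lemma exists_sqrt : ∃ A : Matrix (Fin 24) (Fin 24) ℝ,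
    A.det ^ 2 = 1 ∧ Aᵀ * A = L.BR := by
  obtain ⟨A, hA⟩ := CStarAlgebra.nonneg_iff_eq_star_mul_self.mp L.BR_posDef.posSemidef.nonneg
  have hA' : Aᵀ * A = L.BR := by
    rw [hA, star_eq_conjTranspose, Matrix.conjTranspose_eq_transpose_of_trivial]
  refine ⟨A, ?_, hA'⟩
  have := congrArg Matrix.det hA'
  rw [Matrix.det_mul, Matrix.det_transpose, BR_det] at this
  rw [sq]; exact this

/-- a square root of the Gram matrix -/
noncomputable def A : Matrix (Fin 24) (Fin 24) ℝ := L.exists_sqrt.choose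

lemma A_det_sq : L.A.det ^ 2 = 1 := L.exists_sqrt.choose_spec.1

lemma A_mul : L.Aᵀ * L.A = L.BR := L.exists_sqrt.choose_spec.2

lemma A_det_ne : L.A.det ≠ 0 := fun h => by
  have := L.A_det_sq; simp [h] at this

lemma abs_A_det_inv : |L.A.det⁻¹| = 1 := by
  rcases sq_eq_one_iff.mp L.A_det_sq with h | h <;> simp [h]

lemma nsq_A (x : Fin 24 → ℤ) : nsq (L.A *ᵥ toR x) = (L.qz x : ℝ) := by
  rw [qz, ← toR_dot, ← A_mul, ← Matrix.mulVec_mulVec, Matrix.dotProduct_mulVec,
    Matrix.vecMul_transpose]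
  simp [nsq, dotProduct, sq]

lemma exists_bound : ∃ c : ℝ, 0 < c ∧ ∀ x : Fin 24 → ℤ, c * nsq (toR x) ≤ L.qz x := by
  obtain ⟨c, hc, h⟩ := exists_nsq_le L.A L.A_det_ne
  exact ⟨c, hc, fun x => L.nsq_A x ▸ h (toR x)⟩

/-- the term of the theta series -/
noncomputable def term (x : Fin 24 → ℤ) (z : ℂ) : ℂ := cexp (π * Complex.I * z * (L.qz x : ℂ))

/-- the theta series -/
noncomputable def theta (τ : ℍ) : ℂ := ∑' x : Fin 24 → ℤ, L.term x (τ : ℂ)

lemma norm_term_le {c : ℝ} (hcL : ∀ x : Fin 24 → ℤ, c * nsq (toR x) ≤ L.qz x)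
    {z : ℂ} {ε : ℝ} (hε : 0 ≤ ε) (hz : ε ≤ z.im) (x : Fin 24 → ℤ) :
    ‖L.term x z‖ ≤ Real.exp (-(π * ε * c) * nsq (toR x)) := by
  rw [term, Complex.norm_exp, Real.exp_le_exp]
  have hq : (0 : ℝ) ≤ (L.qz x : ℝ) := by exact_mod_cast L.qz_nonneg x
  simp only [Complex.mul_re, Complex.mul_im, Complex.I_re, Complex.I_im, Complex.ofReal_re,
    Complex.ofReal_im, Complex.intCast_re, Complex.intCast_im]
  have h1 : ε * (c * nsq (toR x)) ≤ z.im * (L.qz x : ℝ) :=
    le_trans (mul_le_mul_of_nonneg_left (hcL x) hε) (mul_le_mul_of_nonneg_right hz hq)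
  nlinarith [mul_le_mul_of_nonneg_left h1 Real.pi_pos.le]

lemma summable_term (τ : ℍ) : Summable fun x => L.term x (τ : ℂ) := by
  obtain ⟨c, hc, hcL⟩ := L.exists_bound
  exact Summable.of_norm_bounded (summable_gauss (a := π * τ.im * c)
    (by have := τ.im_pos; positivity) 24)
    (L.norm_term_le hcL τ.im_pos.le le_rfl)

lemma mulVec_bijective : Function.Bijective (fun m : Fin 24 → ℤ => L.B *ᵥ m) := by
  have hu : IsUnit L.B.det := by rw [L.det_eq]; exact isUnit_one
  refine ⟨fun a b h => ?_, fun k => ⟨L.B⁻¹ *ᵥ k, ?_⟩⟩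
  · have := congrArg (fun v => L.B⁻¹ *ᵥ v) h
    simpa [Matrix.mulVec_mulVec, Matrix.nonsing_inv_mul _ hu] using this
  · simp [Matrix.mulVec_mulVec, Matrix.mul_nonsing_inv _ hu]

lemma theta_S (τ : ℍ) : L.theta (ModularGroup.S • τ) = (τ : ℂ) ^ 12 * L.theta τ := by
  have hτ : (τ : ℂ) ≠ 0 := τ.ne_zero
  set s : ℂ := Complex.I / (τ : ℂ) with hs_def
  have hs : 0 < s.re := by
    rw [hs_def, Complex.div_re]
    simp only [Complex.I_re, Complex.I_im, zero_mul, zero_div, zero_add, one_mul]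
    exact div_pos τ.im_pos (Complex.normSq_pos.mpr hτ)
  have hl : L.theta (ModularGroup.S • τ) = ∑' x : Fin 24 → ℤ, gauss L.A s (toR x) := by
    refine tsum_congr fun x => ?_
    rw [modular_S_smul, term, gauss, nsq_A, hs_def]
    push_cast
    congr 1
    field_simp
  rw [hl, poisson L.A_det_ne hs, abs_A_det_inv]
  rw [← (Equiv.ofBijective _ L.mulVec_bijective).tsum_eq, theta, ← tsum_mul_left]
  refine tsum_congr fun m => ?_
  have hu : IsUnit L.A.det := isUnit_iff_ne_zero.mpr L.A_det_ne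
  have hk : L.A⁻¹ᵀ *ᵥ toR (L.B *ᵥ m) = L.A *ᵥ toR m := by
    have h : toR (L.B *ᵥ m) = L.BR *ᵥ toR m := by
      funext i; simp [toR, BR, Matrix.mulVec, dotProduct, Matrix.map_apply]
    rw [h, ← A_mul, Matrix.mulVec_mulVec, ← Matrix.mul_assoc, ← Matrix.transpose_mul,
      Matrix.mul_nonsing_inv _ hu, Matrix.transpose_one, Matrix.one_mul]
  simp only [Equiv.ofBijective_apply]
  rw [hk, nsq_A, term, hs_def]
  have h24 : ((24 : ℕ) : ℂ) / 2 = ((12 : ℕ) : ℂ) := by norm_num
  rw [h24, Complex.cpow_natCast, Complex.ofReal_one, one_mul, one_div_div, div_pow]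
  have hI : (Complex.I : ℂ) ^ 12 = 1 := by
    rw [show 12 = 4 * 3 from rfl, pow_mul, Complex.I_pow_four, one_pow]
  rw [hI, div_one]
  congr 2
  push_cast
  field_simp
  ring_nf
  simp [Complex.I_sq]

lemma theta_T (τ : ℍ) : L.theta (ModularGroup.T • τ) = L.theta τ := by
  refine tsum_congr fun x => ?_
  obtain ⟨j, hj⟩ := L.even x
  rw [modular_T_smul, term, term, coe_vadd]
  rw [Complex.exp_eq_exp_iff_exists_int]
  refine ⟨j, ?_⟩
  have : (L.qz x : ℂ) = 2 * (j : ℂ) := by rw [qz, hj]; push_cast; ring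
  rw [this]; push_cast; ring

lemma theta_slash (γ : SL(2, ℤ)) : L.theta ∣[(12 : ℤ)] γ = L.theta := by
  refine SlashInvariantForm.slash_action_generators_SL2Z ?_ ?_ γ
  · funext τ
    rw [SL_slash_apply, theta_S, ModularGroup.denom_S]
    rw [_root_.zpow_neg, show ((12 : ℤ)) = ((12 : ℕ) : ℤ) from rfl, zpow_natCast]
    field_simp [τ.ne_zero]
  · funext τ
    rw [SL_slash_apply, theta_T]
    simp [ModularGroup.denom_apply, ModularGroup.coe_T]

lemma mdiff_theta : MDiff (L.theta) := by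
  rw [UpperHalfPlane.mdifferentiable_iff]
  obtain ⟨c, hc, hcL⟩ := L.exists_bound
  intro z hz
  have hz' : 0 < z.im := hz
  have ho : IsOpen {w : ℂ | z.im / 2 < w.im} := isOpen_lt continuous_const Complex.continuous_im
  have hd : DifferentiableOn ℂ (fun w => ∑' x : Fin 24 → ℤ, L.term x w)
      {w : ℂ | z.im / 2 < w.im} :=
    differentiableOn_tsum_of_summable_norm
      (summable_gauss (a := π * (z.im / 2) * c) (by positivity) 24)
      (fun x => by unfold term; fun_prop) ho
      (fun x w hw => L.norm_term_le hcL (by positivity) (le_of_lt hw) x)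
  have hmem : {w : ℂ | z.im / 2 < w.im} ∈ 𝓝 z := ho.mem_nhds (by show z.im / 2 < z.im; linarith)
  refine ((hd.differentiableAt hmem).congr_of_eventuallyEq ?_).differentiableWithinAt
  filter_upwards [hmem] with w hw
  have hw' : 0 < w.im := lt_trans (by positivity) hw
  simp [theta, Function.comp_apply, ofComplex_apply_of_im_pos hw']

/-- the theta series as a modular form -/
noncomputable def thetaForm : ModularForm 𝒮ℒ 12 where
  toFun := L.theta
  slash_action_eq' A hA := by
    obtain ⟨A, rfl⟩ := hA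
    exact L.theta_slash A
  holo' := L.mdiff_theta
  bdd_at_cusps' {c} hc := by
    rw [Subgroup.IsArithmetic.isCusp_iff_isCusp_SL2Z] at hc
    rw [OnePoint.isBoundedAt_iff_forall_SL2Z hc]
    intro γ _
    rw [L.theta_slash γ, isBoundedAtImInfty_iff]
    obtain ⟨c, hc, hcL⟩ := L.exists_bound
    refine ⟨∑' x : Fin 24 → ℤ, Real.exp (-(π * 1 * c) * nsq (toR x)), 1, fun z hz => ?_⟩
    exact tsum_of_norm_bounded (summable_gauss (a := π * 1 * c) (by positivity) 24).hasSum
      (L.norm_term_le hcL zero_le_one hz)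

/-- the vectors of norm `2m` -/
def shell (m : ℕ) : Set (Fin 24 → ℤ) := {x | L.qz x = 2 * m}

lemma shell_finite (m : ℕ) : (L.shell m).Finite := by
  obtain ⟨c, hc, hcL⟩ := L.exists_bound
  refine Set.Finite.subset (Set.finite_Icc (fun _ => -⌈2 * (m : ℝ) / c⌉ : Fin 24 → ℤ)
    (fun _ => ⌈2 * (m : ℝ) / c⌉)) fun x hx => ?_
  have h2 : ∀ i, |x i| ≤ ⌈2 * (m : ℝ) / c⌉ := by
    intro i
    have h1 : (x i : ℝ) ^ 2 ≤ nsq (toR x) :=
      Finset.single_le_sum (f := fun j => (toR x j) ^ 2) (fun j _ => sq_nonneg _)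
        (Finset.mem_univ i)
    have h3 : c * nsq (toR x) ≤ 2 * (m : ℝ) := by
      have := hcL x
      rw [show L.qz x = 2 * (m : ℤ) from hx] at this
      push_cast at this
      exact this
    have h4 : (|x i| : ℤ) ≤ x i ^ 2 := by
      have := Int.le_self_sq |x i|
      rwa [sq_abs] at this
    have h5 : ((|x i| : ℤ) : ℝ) ≤ (x i : ℝ) ^ 2 := by exact_mod_cast h4
    have h6 : nsq (toR x) ≤ 2 * (m : ℝ) / c := by rw [le_div_iff₀ hc]; linarith
    have h7 : ((|x i| : ℤ) : ℝ) ≤ (⌈2 * (m : ℝ) / c⌉ : ℝ) := by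
      linarith [Int.le_ceil (2 * (m : ℝ) / c)]
    exact_mod_cast h7
  exact ⟨fun i => (abs_le.mp (h2 i)).1, fun i => (abs_le.mp (h2 i)).2⟩

lemma hasSum_coeff (τ : ℍ) :
    HasSum (fun m : ℕ => ((L.shell m).ncard : ℂ) • Function.Periodic.qParam 1 τ ^ m)
      (L.theta τ) := by
  let g : (Fin 24 → ℤ) → ℕ := fun x => (L.qz x / 2).toNat
  have hfib : ∀ m : ℕ, g ⁻¹' {m} = L.shell m := by
    intro m
    ext x
    obtain ⟨j, hj⟩ := L.even x
    have h0 := L.qz_nonneg x
    simp only [Set.mem_preimage, Set.mem_singleton_iff, g, shell, Set.mem_ofPred_eq]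
    change L.qz x = 2 * j at hj
    omega
  refine ((L.summable_term τ).hasSum.tsum_fiberwise g).congr_fun fun m => ?_
  rw [hfib m]
  have hval : ∀ x : L.shell m,
      L.term (x : Fin 24 → ℤ) (τ : ℂ) = Function.Periodic.qParam 1 (τ : ℂ) ^ m := by
    rintro ⟨x, hx⟩
    rw [term, show L.qz x = 2 * (m : ℤ) from hx, Function.Periodic.qParam, ← Complex.exp_nat_mul]
    push_cast
    congr 1
    ring
  rw [tsum_congr hval, tsum_const, Nat.card_coe_set_eq, nsmul_eq_mul, smul_eq_mul]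

lemma coeff_thetaForm (m : ℕ) :
    (qExpansion 1 L.thetaForm).coeff m = ((L.shell m).ncard : ℂ) :=
  (ModularFormClass.qExpansion_coeff_unique (f := L.thetaForm) one_pos one_mem_strictPeriods_SL
    L.hasSum_coeff m).symm

lemma shell_zero : (L.shell 0).ncard = 1 := by
  have : L.shell 0 = {0} := by
    ext x
    constructor
    · intro hx
      by_contra h
      have h1 := L.pos x h
      have h2 : L.qz x = 0 := by simpa [shell] using hx
      simp [qz] at h2
      omega
    · rintro rfl; simp [shell, qz]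
  rw [this, Set.ncard_singleton]

/-- `12 θ - 7 E₄³ - 5 E₆²` -/
noncomputable def psi : ModularForm 𝒮ℒ 12 :=
  (12 : ℂ) • L.thetaForm - (7 : ℂ) • ModularForm.mcast (by decide) (E₄.pow 3) -
    (5 : ℂ) • ModularForm.mcast (by decide) (E₆.pow 2)

lemma psi_qExpansion : qExpansion 1 L.psi = (12 : ℂ) • qExpansion 1 L.thetaForm -
    (7 : ℂ) • (qExpansion 1 E₄) ^ 3 - (5 : ℂ) • (qExpansion 1 E₆) ^ 2 := by
  rw [psi, FunLike.coe_sub, ModularForm.qExpansion_sub one_pos one_mem_strictPeriods_SL,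
    FunLike.coe_sub, ModularForm.qExpansion_sub one_pos one_mem_strictPeriods_SL,
    FunLike.coe_smul, ModularForm.qExpansion_smul one_pos one_mem_strictPeriods_SL,
    FunLike.coe_smul, ModularForm.qExpansion_smul one_pos one_mem_strictPeriods_SL,
    FunLike.coe_smul, ModularForm.qExpansion_smul one_pos one_mem_strictPeriods_SL,
    ModularForm.qExpansion_mcast, ModularForm.qExpansion_mcast,
    ModularForm.qExpansion_pow one_pos one_mem_strictPeriods_SL,
    ModularForm.qExpansion_pow one_pos one_mem_strictPeriods_SL]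

lemma e4_coeff (m : ℕ) : (qExpansion 1 E₄).coeff m =
    if m = 0 then 1 else 240 * (ArithmeticFunction.sigma 3 m : ℂ) := by
  rw [EisensteinSeries.E_qExpansion_coeff _ ⟨2, rfl⟩,
    show bernoulli 4 = -1 / 30 by decide +kernel]
  split_ifs <;> norm_num

lemma e6_coeff (m : ℕ) : (qExpansion 1 E₆).coeff m =
    if m = 0 then 1 else -504 * (ArithmeticFunction.sigma 5 m : ℂ) := by
  rw [EisensteinSeries.E_qExpansion_coeff _ ⟨3, rfl⟩,
    show bernoulli 6 = 1 / 42 by decide +kernel]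
  split_ifs <;> norm_num

theorem counts (h1 : (L.shell 1).ncard = 0) :
    (L.shell 2).ncard = 196560 ∧ (L.shell 3).ncard = 16773120 ∧
      (L.shell 4).ncard = 398034000 := by
  have hs : ArithmeticFunction.sigma 3 1 = 1 ∧ ArithmeticFunction.sigma 3 2 = 9 ∧
      ArithmeticFunction.sigma 3 3 = 28 ∧ ArithmeticFunction.sigma 3 4 = 73 ∧
      ArithmeticFunction.sigma 5 1 = 1 ∧ ArithmeticFunction.sigma 5 2 = 33 ∧
      ArithmeticFunction.sigma 5 3 = 244 ∧ ArithmeticFunction.sigma 5 4 = 1057 := by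
    simp only [ArithmeticFunction.sigma_apply]
    decide +kernel
  obtain ⟨a1, a2, a3, a4, b1, b2, b3, b4⟩ := hs
  have h0 : L.psi = 0 := by
    refine ModularForm.sturm_bound_levelOne (lt_of_lt_of_le (b := (2 : ℕ∞)) ?_ ?_)
    · exact_mod_cast (show (12 : ℤ).toNat / 12 < 2 by decide)
    · refine PowerSeries.le_order _ _ fun i hi => ?_
      have hi' : i < 2 := by exact_mod_cast hi
      interval_cases i <;>
        simp [psi_qExpansion, pow_succ, PowerSeries.coeff_mul, Finset.Nat.antidiagonal_succ,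
          -PowerSeries.coeff_zero_eq_constantCoeff, coeff_thetaForm, shell_zero, h1, e4_coeff,
          e6_coeff, a1, b1] <;> norm_num
  have hcoef : ∀ m, (12 : ℂ) * ((L.shell m).ncard : ℂ) =
      7 * ((qExpansion 1 E₄) ^ 3).coeff m + 5 * ((qExpansion 1 E₆) ^ 2).coeff m := by
    intro m
    have h := congrArg (fun f => (qExpansion 1 (f : ℍ → ℂ)).coeff m) (congrArg DFunLike.coe h0)
    simp only [psi_qExpansion] at h
    simp only [map_sub, PowerSeries.coeff_smul, smul_eq_mul, coeff_thetaForm, FunLike.coe_zero,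
      qExpansion_zero, map_zero] at h
    linear_combination h
  refine ⟨?_, ?_, ?_⟩
  · have h := hcoef 2
    simp [pow_succ, PowerSeries.coeff_mul, Finset.Nat.antidiagonal_succ,
      -PowerSeries.coeff_zero_eq_constantCoeff, e4_coeff, e6_coeff, a1, a2, b1, b2] at h
    norm_num at h
    have h' : ((L.shell 2).ncard : ℂ) = ((196560 : ℕ) : ℂ) := by
      push_cast; linear_combination h / 12
    exact_mod_cast h'
  · have h := hcoef 3
    simp [pow_succ, PowerSeries.coeff_mul, Finset.Nat.antidiagonal_succ,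
      -PowerSeries.coeff_zero_eq_constantCoeff, e4_coeff, e6_coeff, a1, a2, a3, b1, b2, b3] at h
    norm_num at h
    have h' : ((L.shell 3).ncard : ℂ) = ((16773120 : ℕ) : ℂ) := by
      push_cast; linear_combination h / 12
    exact_mod_cast h'
  · have h := hcoef 4
    simp [pow_succ, PowerSeries.coeff_mul, Finset.Nat.antidiagonal_succ,
      -PowerSeries.coeff_zero_eq_constantCoeff, e4_coeff, e6_coeff, a1, a2, a3, a4, b1, b2, b3,
      b4] at h
    norm_num at h
    have h' : ((L.shell 4).ncard : ℂ) = ((398034000 : ℕ) : ℂ) := by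
      push_cast; linear_combination h / 12
    exact_mod_cast h'

end Even24

end Cfsg.Agent.Theta
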